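import Mathlib.Geometry.RingedSpace.LocallyRingedSpace
import Mathlib.Topology.Sheaves.SheafCondition.Sites
import Mathlib.Topology.Sheaves.SheafCondition.UniqueGluing
import Mathlib.Topology.Sheaves.CommRingCat
import Mathlib.Topology.Connected.Clopen

/-!
# Connectedness of a locally ringed space and idempotent global sections
-/

set_option autoImplicit false
universe u

open CategoryTheory AlgebraicGeometry Opposite TopologicalSpace

namespace Groth.Agent.ConnIdem

theorem preconnectedSpace_iff (Z : LocallyRingedSpace.{u}) :
    PreconnectedSpace Z ↔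
      ∀ e : Z.presheaf.obj (op ⊤), IsIdempotentElem e → e = 0 ∨ e = 1 := by
  constructor
  · intro hpc e he
    let X := Z.toRingedSpace
    haveI : PreconnectedSpace X := hpc
    let a : X.presheaf.obj (op ⊤) := e
    have he' : IsIdempotentElem a := he
    have hcases : ∀ (x : Z), IsUnit ((X.presheaf.germ ⊤ x trivial).hom a) ∨
        IsUnit ((X.presheaf.germ ⊤ x trivial).hom (1 - a)) := by
      intro x
      have := Z.isLocalRing x
      rw [map_sub, map_one]
      exact IsLocalRing.isUnit_or_isUnit_one_sub_self _
    have hdisj : ∀ x : Z, IsUnit ((X.presheaf.germ ⊤ x trivial).hom a) →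
        IsUnit ((X.presheaf.germ ⊤ x trivial).hom (1 - a)) → False := by
      intro x h1 h2
      have := Z.isLocalRing x
      have h3 := h1.mul h2
      rw [← map_mul, mul_sub, mul_one, he'.eq, sub_self, map_zero] at h3
      exact not_isUnit_zero h3
    have hclopen : IsClopen ((X.basicOpen a : Opens X) : Set X) := by
      refine ⟨isOpen_compl_iff.1 ?_, (X.basicOpen a).2⟩
      have : ((X.basicOpen a : Opens X) : Set X)ᶜ = ((X.basicOpen (1 - a) : Opens X) : Set X) := by
        ext x
        simp only [Set.mem_compl_iff, SetLike.mem_coe, RingedSpace.mem_top_basicOpen]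
        exact ⟨fun h => (hcases x).resolve_left h, fun h h' => hdisj x h' h⟩
      rw [this]
      exact (X.basicOpen (1 - a)).2
    rcases isClopen_iff.1 hclopen with h | h
    · left
      have hu : IsUnit (1 - a) := X.isUnit_of_isUnit_germ ⊤ _ fun x hx => by
        refine (hcases x).resolve_left fun hx' => ?_
        have : x ∈ ((X.basicOpen a : Opens X) : Set X) := (X.mem_top_basicOpen a x).2 hx'
        rw [h] at this
        exact this
      exact (hu.mul_right_eq_zero).1 (show (1 - a) * a = 0 by rw [sub_mul, one_mul, he'.eq, sub_self])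
    · right
      have hu : IsUnit a := X.isUnit_of_isUnit_germ ⊤ _ fun x hx => by
        have : x ∈ ((X.basicOpen a : Opens X) : Set X) := by rw [h]; trivial
        exact (X.mem_top_basicOpen a x).1 this
      exact hu.mul_left_cancel (by rw [he'.eq, mul_one])
  · intro H
    rw [preconnectedSpace_iff_clopen]
    intro S hS
    let U : Bool → Opens Z := fun b => cond b ⟨S, hS.2⟩ ⟨Sᶜ, hS.1.isOpen_compl⟩
    let sf : ∀ b, Z.presheaf.obj (op (U b)) := fun b => cond b 1 0
    have hcov : (⊤ : Opens Z) ≤ iSup U := fun x _ => by
      by_cases h : x ∈ S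
      · exact Opens.mem_iSup.2 ⟨true, h⟩
      · exact Opens.mem_iSup.2 ⟨false, h⟩
    have hsub : ∀ V : Opens Z, V = ⊥ → Subsingleton (Z.presheaf.obj (op V)) := fun V hV => by
      subst hV
      exact CommRingCat.subsingleton_of_isTerminal Z.sheaf.isTerminalOfEmpty
    have hbot : ∀ b b' : Bool, b ≠ b' → U b ⊓ U b' = ⊥ := by
      intro b b' hb
      refine Opens.ext ?_
      rcases b with _ | _ <;> rcases b' with _ | _ <;> simp_all [U]
    have hc : TopCat.Presheaf.IsCompatible Z.sheaf.1 U sf := by
      intro b b'
      by_cases hb : b = b'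
      · subst hb; rfl
      · exact @Subsingleton.elim _ (hsub _ (hbot b b' hb)) _ _
    obtain ⟨e, he, huniq⟩ := Z.sheaf.existsUnique_gluing' U ⊤ (fun b => homOfLE le_top) hcov sf hc
    have hsq : e * e = e := huniq _ fun b => by
      refine (map_mul (Z.presheaf.map (homOfLE le_top).op).hom e e).trans ?_
      refine (congrArg₂ (· * ·) (he b) (he b)).trans ?_
      rcases b with _ | _
      exacts [mul_zero _, one_mul _]
    have hone : ∀ (b : Bool), (U b : Set Z).Nonempty → Nontrivial (Z.presheaf.obj (op (U b))) := by
      rintro b ⟨x, hx⟩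
      have := Z.isLocalRing x
      exact ((Z.presheaf.germ (U b) x hx).hom).domain_nontrivial
    rcases H e hsq with h | h
    · left
      by_contra hne
      have hh := hone true (Set.nonempty_iff_ne_empty.2 hne)
      have hc' := he true
      rw [h] at hc'
      exact (one_ne_zero (α := Z.presheaf.obj (op (U true)))) (hc'.symm.trans (map_zero (Z.presheaf.map (homOfLE le_top).op).hom))
    · right
      by_contra hne
      have hh := hone false (Set.nonempty_compl.2 hne)
      have hc' := he false
      rw [h] at hc'
      exact (one_ne_zero (α := Z.presheaf.obj (op (U false)))) ((map_one (Z.presheaf.map (homOfLE le_top).op).hom).symm.trans hc')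

end Groth.Agent.ConnIdem
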